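import Groth.Agent.Lib.Ferrand.Affine
import Groth.Agent.Lib.Ferrand.Spec
import Mathlib.AlgebraicGeometry.AffineTransitionLimit
import Mathlib.AlgebraicGeometry.Morphisms.FinitePresentation
import Mathlib.Algebra.Category.Ring.FilteredColimits
import Mathlib.Algebra.Polynomial.Lifts
import Mathlib.Algebra.Polynomial.Eval.Coeff
import Mathlib.Algebra.Polynomial.AlgebraMap
import Mathlib.Algebra.Algebra.Subalgebra.Lattice
import Mathlib.RingTheory.Localization.Away.Basic

/-!
# Rescaling the variable of polynomial points of a locally finitely presented scheme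

If `D = C[1/r]` and `g` is a `D[T]`-point whose restriction to `T = 0` comes from a `C`-point, then
`g(r^n T)` comes from a `C[T]`-point for some `n`.
-/

universe u

open CategoryTheory Limits AlgebraicGeometry Polynomial Opposite

namespace Groth.Agent.Lib.LocScale

variable (R : Type u) [CommRing R]

/-- An affine scheme over `Spec R`. -/
noncomputable abbrev O (C : Type u) [CommRing C] [Algebra R C] : Over (Spec (CommRingCat.of R)) :=
  Over.mk (Spec.map (CommRingCat.ofHom (algebraMap R C)))

variable {R} {C D E : Type u} [CommRing C] [CommRing D] [CommRing E] [Algebra R C] [Algebra R D]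
  [Algebra R E]

/-- The morphism induced by an algebra map. -/
noncomputable def m (f : C →ₐ[R] D) : O R D ⟶ O R C :=
  Over.homMk (Spec.map (CommRingCat.ofHom f.toRingHom)) (by
    dsimp
    rw [← Spec.map_comp, ← CommRingCat.ofHom_comp]
    congr 2
    exact f.comp_algebraMap)

theorem m_left (f : C →ₐ[R] D) : (m f).left = Spec.map (CommRingCat.ofHom f.toRingHom) := rfl

theorem m_comp (g : D →ₐ[R] E) (f : C →ₐ[R] D) : m g ≫ m f = m (g.comp f) := by
  refine Over.OverMorphism.ext ?_
  rw [Over.comp_left, m_left, m_left, m_left, ← Spec.map_comp, ← CommRingCat.ofHom_comp]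
  rfl

theorem m_id : m (AlgHom.id R C) = 𝟙 (O R C) := by
  refine Over.OverMorphism.ext ?_
  rw [m_left, Over.id_left]
  exact Spec.map_id _

/-- Evaluation at `0`. -/
noncomputable def ev0 (R C : Type u) [CommRing R] [CommRing C] [Algebra R C] : C[X] →ₐ[R] C :=
  (Polynomial.aeval (0 : C)).restrictScalars R

theorem ev0_apply (p : C[X]) : ev0 R C p = p.coeff 0 := by
  simp [ev0, Polynomial.coeff_zero_eq_eval_zero]

theorem ev0_toRingHom : (ev0 R C).toRingHom = Polynomial.evalRingHom (0 : C) := by
  ext p <;> simp [ev0]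

/-- Scaling of the variable. -/
noncomputable def scale (R : Type u) {C : Type u} [CommRing R] [CommRing C] [Algebra R C] (c : C) :
    C[X] →ₐ[R] C[X] :=
  (Polynomial.aeval (Polynomial.C c * X : C[X])).restrictScalars R

theorem scale_eq_comp (c : C) (p : C[X]) : scale R c p = p.comp (Polynomial.C c * X) := by
  simp [scale, Polynomial.comp_eq_aeval]

theorem coeff_scale (c : C) (p : C[X]) (i : ℕ) : (scale R c p).coeff i = p.coeff i * c ^ i := by
  rw [scale_eq_comp, Polynomial.comp_C_mul_X_coeff]

theorem scale_one (p : C[X]) : scale R (1 : C) p = p := by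
  ext i
  simp [coeff_scale]

theorem scale_scale (c d : C) (p : C[X]) : scale R c (scale R d p) = scale R (c * d) p := by
  ext i
  simp only [coeff_scale, mul_pow]
  ring

/-- `ι` makes the target the localisation at `r`. -/
structure IsLoc (ι : C →ₐ[R] D) (r : C) : Prop where
  unit : IsUnit (ι r)
  surj : ∀ d, ∃ (k : ℕ) (c : C), d * ι r ^ k = ι c
  eq : ∀ a b, ι a = ι b → ∃ k : ℕ, r ^ k * a = r ^ k * b

theorem IsLoc.surj' {ι : C →ₐ[R] D} {r : C} (h : IsLoc ι r) (d : D) :
    ∃ k : ℕ, ∀ n, k ≤ n → ∃ c : C, d * ι r ^ n = ι c := by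
  obtain ⟨k, c, hc⟩ := h.surj d
  refine ⟨k, fun n hn => ⟨c * r ^ (n - k), ?_⟩⟩
  rw [map_mul, map_pow, ← hc, mul_assoc, ← pow_add, Nat.add_sub_cancel' hn]

theorem IsLoc.eq' {ι : C →ₐ[R] D} {r : C} (h : IsLoc ι r) {a b : C} (hab : ι a = ι b) :
    ∃ k : ℕ, ∀ n, k ≤ n → r ^ n * a = r ^ n * b := by
  obtain ⟨k, hk⟩ := h.eq a b hab
  refine ⟨k, fun n hn => ?_⟩
  rw [← Nat.sub_add_cancel hn, pow_add, mul_assoc, mul_assoc, hk]

theorem IsLoc.polynomial {ι : C →ₐ[R] D} {r : C} (h : IsLoc ι r) :
    IsLoc (Polynomial.mapAlgHom ι) (Polynomial.C r) := by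
  classical
  have hC : Polynomial.mapAlgHom ι (Polynomial.C r) = Polynomial.C (ι r) := by simp
  refine ⟨hC ▸ h.unit.map Polynomial.C, fun d => ?_, fun a b hab => ?_⟩
  · choose k hk using fun i => h.surj' (d.coeff i)
    refine ⟨(Finset.range (d.natDegree + 1)).sup k, ?_⟩
    set N := (Finset.range (d.natDegree + 1)).sup k
    have hl : d * Polynomial.C (ι r) ^ N ∈ Polynomial.lifts ι.toRingHom := by
      rw [Polynomial.lifts_iff_coeff_lifts]
      intro i
      rw [← map_pow, Polynomial.coeff_mul_C]
      by_cases hi : i ≤ d.natDegree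
      · obtain ⟨c, hc⟩ := hk i N (Finset.le_sup (Finset.mem_range.mpr (Nat.lt_succ_of_le hi)))
        exact ⟨c, hc.symm⟩
      · exact ⟨0, by rw [Polynomial.coeff_eq_zero_of_natDegree_lt (not_le.mp hi), zero_mul,
          map_zero]⟩
    obtain ⟨c, hc⟩ := (Polynomial.mem_lifts _).mp hl
    exact ⟨c, by rw [hC, ← hc]; rfl⟩
  · have hi : ∀ i, ι (a.coeff i) = ι (b.coeff i) := fun i => by
      have := congrArg (fun p : D[X] => p.coeff i) hab
      simpa using this
    choose k hk using fun i => h.eq' (hi i)
    refine ⟨(Finset.range (max a.natDegree b.natDegree + 1)).sup k, ?_⟩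
    ext i
    rw [← map_pow, Polynomial.coeff_C_mul, Polynomial.coeff_C_mul]
    by_cases hi : i ≤ max a.natDegree b.natDegree
    · exact hk i _ (Finset.le_sup (Finset.mem_range.mpr (Nat.lt_succ_of_le hi)))
    · rw [Polynomial.coeff_eq_zero_of_natDegree_lt
        (lt_of_le_of_lt (le_max_left _ _) (not_le.mp hi)),
        Polynomial.coeff_eq_zero_of_natDegree_lt
        (lt_of_le_of_lt (le_max_right _ _) (not_le.mp hi))]

/-- If `D` is obtained from `R` by inverting `r * s` and `A` by inverting `s`, then `D` is the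
localisation of `A` at `r`. -/
theorem isLoc_of_mul (A B : Type u) [CommRing A] [CommRing B] [Algebra R A] [Algebra R B]
    [Algebra A B] [IsScalarTower R A B] (r s : R) [IsLocalization.Away s A]
    [IsLocalization.Away (r * s) B] :
    IsLoc (IsScalarTower.toAlgHom R A B) (algebraMap R A r) := by
  have hmap : ∀ x, IsScalarTower.toAlgHom R A B (algebraMap R A x) = algebraMap R B x := fun x =>
    AlgHom.commutes _ x
  have hrs : IsUnit (algebraMap R B r * algebraMap R B s) := by
    rw [← map_mul]; exact IsLocalization.Away.algebraMap_isUnit (r * s)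
  have hs : IsUnit (algebraMap R A s) := IsLocalization.Away.algebraMap_isUnit s
  refine ⟨by rw [hmap]; exact isUnit_of_mul_isUnit_left hrs, fun d => ?_, fun a b hab => ?_⟩
  · obtain ⟨k, c, hc⟩ := IsLocalization.Away.surj (r * s) d
    obtain ⟨v, hv⟩ := hs.exists_right_inv
    refine ⟨k, algebraMap R A c * v ^ k, ?_⟩
    rw [map_mul, hmap, hmap, map_pow, ← hc, map_mul]
    have e : algebraMap R B s * IsScalarTower.toAlgHom R A B v = 1 := by
      rw [← hmap, ← map_mul, hv, map_one]
    rw [mul_pow, mul_assoc d, mul_assoc (algebraMap R B r ^ k), ← mul_pow (algebraMap R B s), e,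
      one_pow, mul_one]
  · obtain ⟨n, a₀, ha⟩ := IsLocalization.Away.surj s a
    obtain ⟨l, b₀, hb⟩ := IsLocalization.Away.surj s b
    have h0 : algebraMap R B (a₀ * s ^ l) = algebraMap R B (b₀ * s ^ n) := by
      rw [← hmap, ← hmap, map_mul (algebraMap R A), map_mul (algebraMap R A), map_pow, map_pow,
        ← ha, ← hb]
      simp only [map_mul, map_pow, hab]
      ring
    obtain ⟨k, hk⟩ := IsLocalization.Away.exists_of_eq (r * s) h0
    refine ⟨k, ((hs.pow (k + n + l)).mul_left_inj).mp ?_⟩
    have hk' := congrArg (algebraMap R A) hk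
    simp only [map_mul, map_pow, ← ha, ← hb] at hk'
    linear_combination hk'

variable {ι : C →ₐ[R] D} {r : C}

/-- A `D[T]`-point of an lfp scheme whose value at `T = 0` comes from `C` comes from a `C[T]`-point
after rescaling `T` by a power of `r`. -/
theorem exists_scale_eq (G : Over (Spec (CommRingCat.of R))) [LocallyOfFinitePresentation G.hom]
    (h : IsLoc ι r) (g : O R D[X] ⟶ G) (e : O R C ⟶ G) (hge : m (ev0 R D) ≫ g = m ι ≫ e) :
    ∃ (n : ℕ) (g' : O R C[X] ⟶ G), m (ev0 R C) ≫ g' = e ∧
      m (Polynomial.mapAlgHom ι) ≫ g' = m (scale R (ι r ^ n)) ≫ g := by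
  classical
  obtain ⟨v, hv⟩ := h.unit.exists_right_inv
  let S : Subalgebra R (D[X] × C) :=
    AlgHom.equalizer ((ev0 R D).comp (AlgHom.fst R D[X] C)) (ι.comp (AlgHom.snd R D[X] C))
  let s : S →ₐ[R] D[X] := (AlgHom.fst R D[X] C).comp S.val
  let q : S →ₐ[R] C := (AlgHom.snd R D[X] C).comp S.val
  let φ : ℕ → (C[X] →ₐ[R] S) := fun n =>
    AlgHom.codRestrict (((scale R (v ^ n)).comp (Polynomial.mapAlgHom ι)).prod (ev0 R C)) S
      fun p => by
        show ev0 R D (scale R (v ^ n) (Polynomial.mapAlgHom ι p)) = ι (ev0 R C p)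
        simp [ev0_apply, coeff_scale]
  have sφ : ∀ n p i, (s (φ n p)).coeff i = ι (p.coeff i) * (v ^ n) ^ i := by
    intro n p i
    show (scale R (v ^ n) (Polynomial.mapAlgHom ι p)).coeff i = _
    simp [coeff_scale]
  have qφ : ∀ n, q.comp (φ n) = ev0 R C := fun n => rfl
  have hext : ∀ x y : S, (∀ i, (s x).coeff i = (s y).coeff i) → q x = q y → x = y :=
    fun x y h₁ h₂ => Subtype.ext (Prod.ext (Polynomial.ext h₁) h₂)
  let F : ULift.{u} ℕ ⥤ CommRingCat.{u} :=
    { obj := fun _ => CommRingCat.of C[X]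
      map := fun {a b} _ => CommRingCat.ofHom (scale R (r ^ (b.down - a.down))).toRingHom
      map_id := fun a => by
        refine CommRingCat.hom_ext (RingHom.ext fun p => ?_)
        show scale R (r ^ (a.down - a.down)) p = p
        rw [Nat.sub_self, pow_zero, scale_one]
      map_comp := fun {a b c} f g => by
        refine CommRingCat.hom_ext (RingHom.ext fun p => ?_)
        show scale R (r ^ (c.down - a.down)) p =
          scale R (r ^ (c.down - b.down)) (scale R (r ^ (b.down - a.down)) p)
        rw [scale_scale, ← pow_add]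
        have h₁ : a.down ≤ b.down := f.le
        have h₂ : b.down ≤ c.down := g.le
        congr 3
        omega }
  let cc : Cocone F :=
    { pt := CommRingCat.of S
      ι :=
        { app := fun n => CommRingCat.ofHom (φ n.down).toRingHom
          naturality := fun a b f => by
            refine CommRingCat.hom_ext (RingHom.ext fun p => hext _ _ (fun i => ?_) ?_)
            · show (s (φ b.down (scale R (r ^ (b.down - a.down)) p))).coeff i =
                (s (φ a.down p)).coeff i
              obtain ⟨d, hd⟩ := Nat.exists_eq_add_of_le (show a.down ≤ b.down from f.le)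
              rw [sφ, sφ, coeff_scale, hd, Nat.add_sub_cancel_left, map_mul, map_pow, map_pow]
              calc ι (p.coeff i) * (ι r ^ d) ^ i * (v ^ (a.down + d)) ^ i
                  = ι (p.coeff i) * (v ^ a.down) ^ i * ((ι r * v) ^ d) ^ i := by ring
                _ = ι (p.coeff i) * (v ^ a.down) ^ i := by rw [hv]; simp
            · show ev0 R C (scale R (r ^ (b.down - a.down)) p) = ev0 R C p
              simp [ev0_apply, coeff_scale] } }
  have hcol : IsColimit cc := by
    haveI : PreservesColimitsOfShape (ULift.{u} ℕ) (forget CommRingCat.{u}) := inferInstance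
    haveI : ReflectsColimitsOfShape (ULift.{u} ℕ) (forget CommRingCat.{u}) :=
      reflectsColimitsOfShape_of_reflectsIsomorphisms
    refine isColimitOfReflects (forget CommRingCat.{u})
      (Types.FilteredColimit.isColimitOf' _ _ ?_ ?_)
    · intro (x : S)
      obtain ⟨⟨f, c⟩, hfc⟩ := x
      have hf0 : f.coeff 0 = ι c := by
        have h' : ev0 R D f = ι c := hfc
        rwa [ev0_apply] at h'
      choose k hk using fun i => h.surj' (f.coeff i)
      let N := (Finset.range (f.natDegree + 1)).sup k
      have hl : scale R (ι r ^ N) f ∈ Polynomial.lifts ι.toRingHom := by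
        rw [Polynomial.lifts_iff_coeff_lifts]
        intro i
        rw [coeff_scale, ← pow_mul]
        rcases Nat.eq_zero_or_pos i with rfl | hi0
        · exact ⟨c, by simp [hf0]⟩
        by_cases hi : i ≤ f.natDegree
        · obtain ⟨c', hc'⟩ := hk i (N * i) ((Finset.le_sup (f := k)
            (Finset.mem_range.mpr (Nat.lt_succ_of_le hi))).trans (Nat.le_mul_of_pos_right _ hi0))
          exact ⟨c', hc'.symm⟩
        · exact ⟨0, by rw [Polynomial.coeff_eq_zero_of_natDegree_lt (not_le.mp hi), zero_mul,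
            map_zero]⟩
      obtain ⟨p, hp⟩ := (Polynomial.mem_lifts _).mp hl
      refine ⟨⟨N⟩, p - Polynomial.C (p.coeff 0) + Polynomial.C c, ?_⟩
      refine hext _ _ (fun i => ?_) ?_
      · show f.coeff i = (s (φ N _)).coeff i
        rw [sφ]
        rcases Nat.eq_zero_or_pos i with rfl | hi0
        · simp [hf0]
        · have hpi : ι (p.coeff i) = f.coeff i * (ι r ^ N) ^ i := by
            have := congrArg (fun t : D[X] => t.coeff i) hp
            simpa [coeff_scale] using this
          rw [Polynomial.coeff_add, Polynomial.coeff_sub, Polynomial.coeff_C, Polynomial.coeff_C,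
            if_neg hi0.ne', if_neg hi0.ne', sub_zero, add_zero, hpi, mul_assoc, ← mul_pow,
            ← mul_pow, hv, one_pow, one_pow, mul_one]
      · show c = ev0 R C _
        simp [ev0_apply]
    · intro a x y hxy
      have h₁ : ∀ i, (s (φ a.down x)).coeff i = (s (φ a.down y)).coeff i := fun i =>
        congrArg (fun t : S => (s t).coeff i) hxy
      have h0 : x.coeff 0 = y.coeff 0 := by
        have h' : q (φ a.down x) = q (φ a.down y) := congrArg q hxy
        rw [← AlgHom.comp_apply, ← AlgHom.comp_apply, qφ] at h'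
        simpa [ev0_apply] using h'
      have hι : ∀ i, ι (x.coeff i) = ι (y.coeff i) := fun i => by
        have h₂ := h₁ i
        rw [sφ, sφ] at h₂
        have h₃ := congrArg (· * (ι r ^ a.down) ^ i) h₂
        simpa [mul_assoc, ← mul_pow, mul_comm v, hv] using h₃
      choose k hk using fun i => h.eq' (hι i)
      let N := (Finset.range (max x.natDegree y.natDegree + 1)).sup k
      refine ⟨⟨a.down + N⟩, homOfLE (show a.down ≤ a.down + N from Nat.le_add_right _ _), ?_⟩
      show scale R (r ^ (a.down + N - a.down)) x = scale R (r ^ (a.down + N - a.down)) y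
      ext i
      rw [coeff_scale, coeff_scale, Nat.add_sub_cancel_left, ← pow_mul]
      rcases Nat.eq_zero_or_pos i with rfl | hi0
      · rw [h0]
      by_cases hi : i ≤ max x.natDegree y.natDegree
      · rw [mul_comm (x.coeff i), mul_comm (y.coeff i)]
        exact hk i _ ((Finset.le_sup (f := k)
          (Finset.mem_range.mpr (Nat.lt_succ_of_le hi))).trans (Nat.le_mul_of_pos_right _ hi0))
      · rw [Polynomial.coeff_eq_zero_of_natDegree_lt
          (lt_of_le_of_lt (le_max_left _ _) (not_le.mp hi)),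
          Polynomial.coeff_eq_zero_of_natDegree_lt
          (lt_of_le_of_lt (le_max_right _ _) (not_le.mp hi))]
  have hw : CommRingCat.ofHom q.toRingHom ≫ CommRingCat.ofHom ι.toRingHom =
      CommRingCat.ofHom s.toRingHom ≫ CommRingCat.ofHom (ev0 R D).toRingHom :=
    CommRingCat.hom_ext (RingHom.ext fun x => (x.2 : _).symm)
  have hsq : Ferrand.IsSq q.toRingHom s.toRingHom ι.toRingHom (ev0 R D).toRingHom := by
    refine ⟨fun x => (x.2 : _).symm, fun d => ⟨Polynomial.C d, by simp [ev0_apply]⟩,
      fun x y h₁ h₂ => Subtype.ext (Prod.ext h₂ h₁), fun c f hcf => ⟨⟨(f, c), hcf.symm⟩, rfl, rfl⟩⟩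
  have hpo := (Ferrand.affSq_Spec hw hsq).isLocPushout.isPushout
  have hge' : (m (ev0 R D)).left ≫ g.left = (m ι).left ≫ e.left := congr($(hge).left)
  let a : Spec (CommRingCat.of S) ⟶ G.left := hpo.desc g.left e.left hge'
  have ha₁ : Spec.map (CommRingCat.ofHom s.toRingHom) ≫ a = g.left := hpo.inl_desc _ _ _
  have ha₂ : Spec.map (CommRingCat.ofHom q.toRingHom) ≫ a = e.left := hpo.inr_desc _ _ _
  have ha : a ≫ G.hom = Spec.map (CommRingCat.ofHom (algebraMap R S)) := by
    refine hpo.hom_ext ?_ ?_
    · rw [reassoc_of% ha₁, Over.w g, ← Spec.map_comp, ← CommRingCat.ofHom_comp]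
      congr 2
    · rw [reassoc_of% ha₂, Over.w e, ← Spec.map_comp, ← CommRingCat.ofHom_comp]
      congr 2
  let t : F.op ⋙ Scheme.Spec ⟶ (Functor.const _).obj (Spec (CommRingCat.of R)) :=
    { app := fun _ => Spec.map (CommRingCat.ofHom (algebraMap R C[X]))
      naturality := fun x y f => by
        show Spec.map (CommRingCat.ofHom (scale R _).toRingHom) ≫
            Spec.map (CommRingCat.ofHom (algebraMap R C[X])) =
          Spec.map (CommRingCat.ofHom (algebraMap R C[X])) ≫ 𝟙 _
        rw [Category.comp_id, ← Spec.map_comp, ← CommRingCat.ofHom_comp]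
        congr 2
        exact RingHom.ext (AlgHom.commutes (scale R _)) }
  have i₁ : ∀ {x y} (f : x ⟶ y), IsAffineHom ((F.op ⋙ Scheme.Spec).map f) := fun f => by
    dsimp; infer_instance
  have i₂ : ∀ x, CompactSpace ((F.op ⋙ Scheme.Spec).obj x) := fun x => by
    dsimp; infer_instance
  have i₃ : ∀ x, QuasiSeparatedSpace ((F.op ⋙ Scheme.Spec).obj x) := fun x => by
    dsimp; infer_instance
  obtain ⟨i, g₀, hg₀, hg₀'⟩ := Scheme.exists_π_app_comp_eq_of_locallyOfFinitePresentation
    (F.op ⋙ Scheme.Spec) t G.hom (Scheme.Spec.mapCone cc.op)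
    (isLimitOfPreserves Scheme.Spec hcol.op) a (by
      ext n : 2
      show Spec.map (CommRingCat.ofHom (φ n.unop.down).toRingHom) ≫
          Spec.map (CommRingCat.ofHom (algebraMap R C[X])) = a ≫ G.hom
      rw [ha, ← Spec.map_comp, ← CommRingCat.ofHom_comp]
      congr 2
      exact RingHom.ext (AlgHom.commutes (φ n.unop.down)))
  obtain ⟨⟨n⟩⟩ := i
  change Spec.map (CommRingCat.ofHom (φ n).toRingHom) ≫ g₀ = a at hg₀
  change g₀ ≫ G.hom = Spec.map (CommRingCat.ofHom (algebraMap R C[X])) at hg₀'
  refine ⟨n, Over.homMk g₀ hg₀', Over.OverMorphism.ext ?_, Over.OverMorphism.ext ?_⟩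
  · show Spec.map (CommRingCat.ofHom (ev0 R C).toRingHom) ≫ g₀ = e.left
    rw [← ha₂, ← hg₀, ← Category.assoc, ← Spec.map_comp, ← CommRingCat.ofHom_comp]
    rfl
  · show Spec.map (CommRingCat.ofHom (Polynomial.mapAlgHom ι).toRingHom) ≫ g₀ =
      Spec.map (CommRingCat.ofHom (scale R (ι r ^ n)).toRingHom) ≫ g.left
    rw [← ha₁, ← hg₀, ← Category.assoc, ← Category.assoc, ← Spec.map_comp, ← Spec.map_comp,
      ← CommRingCat.ofHom_comp, ← CommRingCat.ofHom_comp]
    congr 3
    refine RingHom.ext fun p => Polynomial.ext fun i => ?_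
    show (Polynomial.mapAlgHom ι p).coeff i = (scale R (ι r ^ n) (s (φ n p))).coeff i
    rw [coeff_scale, sφ, mul_assoc, ← mul_pow, ← mul_pow, mul_comm v, hv, one_pow, one_pow,
      mul_one]
    simp

end Groth.Agent.Lib.LocScale
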